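import Groth.Agent.TorAR.Res
import Mathlib.Algebra.Category.ModuleCat.Projective
import Mathlib.Algebra.Category.ModuleCat.Ext.HasExt
import Mathlib.CategoryTheory.Abelian.Projective.Ext
import Mathlib.Algebra.Homology.Augment
import Mathlib.Algebra.Homology.ShortComplex.ModuleCat

/-!
# Artin–Rees for `Ext`
-/

set_option autoImplicit false
universe u

open CategoryTheory CategoryTheory.Limits

namespace Groth.Agent.TorAR

variable {A : Type u} [CommRing A]

/-- A complex as a categorical chain complex. -/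
noncomputable def Cpx.toChain (C : Cpx A) : ChainComplex (ModuleCat.{u} A) ℕ :=
  ChainComplex.of C.X (fun j => ModuleCat.ofHom (C.d j))
    fun j => ModuleCat.hom_ext (LinearMap.ext fun x => C.d_d j x)

lemma Cpx.toChain_d (C : Cpx A) (j : ℕ) : C.toChain.d (j + 1) j = ModuleCat.ofHom (C.d j) :=
  ChainComplex.of_d C.X (fun j => ModuleCat.ofHom (C.d j)) j

/-- A resolution as a categorical projective resolution. -/
noncomputable def Res.toProj {L : ModuleCat.{u} A} (P : Res A L) : ProjectiveResolution L where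
  complex := P.toCpx.toChain
  projective j := (IsProjective.iff_projective _).1 (P.proj j)
  π := (ChainComplex.toSingle₀Equiv _ _).symm ⟨ModuleCat.ofHom P.aug, by
    rw [Cpx.toChain_d]
    exact ModuleCat.hom_ext (LinearMap.ext fun x => P.exact₀.apply_apply_eq_zero x)⟩
  quasiIso := ⟨fun n => by
    cases n with
    | succ n =>
      rw [quasiIsoAt_iff_exactAt']
      · rw [HomologicalComplex.exactAt_iff' _ (n + 2) (n + 1) n (by simp) (by simp),
          ShortComplex.ShortExact.moduleCat_exact_iff_function_exact]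
        simp only [Cpx.toChain_d, HomologicalComplex.shortComplexFunctor'_obj_f,
          HomologicalComplex.shortComplexFunctor'_obj_g]
        exact P.exact n
      · exact ChainComplex.exactAt_succ_single_obj _ _
    | zero =>
      rw [ChainComplex.quasiIsoAt₀_iff, ShortComplex.quasiIso_iff_of_zeros']
      · refine ⟨?_, ?_⟩
        · rw [ShortComplex.ShortExact.moduleCat_exact_iff_function_exact]
          simp only [HomologicalComplex.shortComplexFunctor'_map_τ₂,
            ChainComplex.toSingle₀Equiv_symm_apply_f_zero, HomologicalComplex.shortComplexFunctor'_obj_f,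
            Cpx.toChain_d]
          exact P.exact₀
        · exact (ModuleCat.epi_iff_surjective _).2 P.aug_surj
      all_goals first | rfl | simp⟩

/-- A map of resolutions as a categorical one. -/
noncomputable def ResMap.toHom {L M : ModuleCat.{u} A} {Q : Res A L} {P : Res A M} {f : L →ₗ[A] M}
    (φ : ResMap Q P f) : ProjectiveResolution.Hom Q.toProj P.toProj (ModuleCat.ofHom f) where
  hom :=
    { f := fun j => ModuleCat.ofHom (φ.app j)
      comm' := by
        rintro i j (rfl : j + 1 = i)
        simp only [Res.toProj, Cpx.toChain_d]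
        exact ModuleCat.hom_ext (LinearMap.ext fun x => φ.comm j x) }
  hom_f_zero_comp_π_f_zero := ModuleCat.hom_ext (LinearMap.ext fun x => φ.comm_aug x)

theorem exists_ext_factor [IsNoetherianRing A] [HasExt.{u} (ModuleCat.{u} A)] (I : Ideal A)
    (M N : ModuleCat.{u} A) [Module.Finite A M] (p : ℕ) :
    ∃ c : ℕ, ∀ n : ℕ, ∀ e : Abelian.Ext M N p,
      ∃ e' : Abelian.Ext (ModuleCat.of A ↥(I ^ n • ⊤ : Submodule A M))
          (ModuleCat.of A ↥(I ^ (n - c) • ⊤ : Submodule A N)) p,
        e'.comp (Abelian.Ext.mk₀ (ModuleCat.ofHom (I ^ (n - c) • ⊤ : Submodule A N).subtype)) (add_zero p) =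
          (Abelian.Ext.mk₀ (ModuleCat.ofHom (I ^ n • ⊤ : Submodule A M).subtype)).comp e (zero_add p) := by
  obtain ⟨c, hc⟩ := exists_resMap_shift (mkRes M) I p
  refine ⟨c, fun n e => ?_⟩
  let W : Submodule A M := I ^ n • ⊤
  haveI : Module.Finite A (ModuleCat.of A W) := inferInstanceAs (Module.Finite A W)
  obtain ⟨ψ, hψ⟩ := hc n (ModuleCat.of A W) W.subtype (fun x => x.2) (mkRes (ModuleCat.of A W))
  obtain ⟨f, hf, rfl⟩ := (mkRes M).toProj.extMk_surjective e (p + 1) rfl
  let V : Submodule A N := I ^ (n - c) • ⊤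
  have hV : ∀ x, f (ψ.app p x) ∈ V := fun x => by
    have h1 : f.hom (ψ.app p x) ∈ (I ^ (n - c) • ⊤ : Submodule A ((mkRes M).X p)).map f.hom :=
      Submodule.mem_map_of_mem (hψ x)
    have h2 : ∀ (f₀ : (mkRes M).X p →ₗ[A] N), (I ^ (n - c) • ⊤ : Submodule A ((mkRes M).X p)).map f₀ ≤ V :=
      fun f₀ => (Submodule.map_smul'' _ _ f₀).trans_le (Submodule.smul_mono le_rfl le_top)
    exact h2 f.hom h1
  let f' : (mkRes (ModuleCat.of A W)).toProj.complex.X p ⟶ ModuleCat.of A V :=
    ModuleCat.ofHom ((f.hom ∘ₗ ψ.app p).codRestrict V hV)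
  have hcomp : f' ≫ ModuleCat.ofHom V.subtype = ψ.toHom.hom.f p ≫ f := rfl
  have hf' : (mkRes (ModuleCat.of A W)).toProj.complex.d (p + 1) p ≫ f' = 0 := by
    haveI : Mono (ModuleCat.ofHom V.subtype) := (ModuleCat.mono_iff_injective _).2 Subtype.val_injective
    rw [← cancel_mono (ModuleCat.ofHom V.subtype), Category.assoc, hcomp, zero_comp,
      ← ψ.toHom.hom.comm_assoc, hf, comp_zero]
  refine ⟨(mkRes (ModuleCat.of A W)).toProj.extMk f' (p + 1) rfl hf', ?_⟩
  rw [ProjectiveResolution.extMk_comp_mk₀, ProjectiveResolution.mk₀_comp_extMk _ _ _ _ ψ.toHom]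
  simp only [hcomp]

end Groth.Agent.TorAR
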