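import Groth.Agent.TorAR.Null
import Groth.Agent.FTorColim.Balance
import Mathlib.Algebra.Homology.HomologySequenceLemmas

/-!
# Uniform pro-vanishing of `Tor`
-/

set_option autoImplicit false
universe u

open CategoryTheory CategoryTheory.Limits MonoidalCategory

namespace Groth.Agent.TorAR

variable {A : Type u} [CommRing A]

section shift

variable {M : ModuleCat.{u} A} (P : Res A M)

/-- The first syzygy. -/
abbrev syzOne : ModuleCat.{u} A := ModuleCat.of A (LinearMap.ker P.aug)

/-- The shifted resolution. -/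
def shift : Res A (syzOne P) where
  X j := P.X (j + 1)
  d j := P.d (j + 1)
  d_d j x := P.d_d (j + 1) x
  aug := (P.d 0).codRestrict _ fun x => LinearMap.mem_ker.2 (P.exact₀.apply_apply_eq_zero x)
  aug_surj x := by
    obtain ⟨w, hw⟩ := (P.exact₀ _).1 (LinearMap.mem_ker.1 x.2)
    exact ⟨w, Subtype.ext hw⟩
  exact₀ x := by
    constructor
    · intro hx
      exact (P.exact 0 x).1 (congrArg Subtype.val hx)
    · rintro ⟨w, rfl⟩
      exact Subtype.ext (P.d_d 0 w)
  exact j := P.exact (j + 1)
  proj j := P.proj (j + 1)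
  fin j := P.fin (j + 1)

variable {L : ModuleCat.{u} A} {Q : Res A L} {f : L →ₗ[A] M} {P}

/-- The map of syzygies. -/
def ResMap.syz (φ : ResMap Q P f) : syzOne Q →ₗ[A] syzOne P :=
  (φ.app 0 ∘ₗ (LinearMap.ker Q.aug).subtype).codRestrict _ fun x => LinearMap.mem_ker.2 (by
    rw [LinearMap.comp_apply, φ.comm_aug]
    exact (congrArg f (LinearMap.mem_ker.1 x.2)).trans (map_zero f))

/-- The shifted map of resolutions. -/
def ResMap.shift (φ : ResMap Q P f) : ResMap (TorAR.shift Q) (TorAR.shift P) φ.syz where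
  app j := φ.app (j + 1)
  comm j x := φ.comm (j + 1) x
  comm_aug x := Subtype.ext (φ.comm 0 x)

/-- The short complex of the first syzygy. -/
noncomputable def syzSC (P : Res A M) : ShortComplex (ModuleCat.{u} A) :=
  ShortComplex.mk (X₁ := syzOne P) (X₂ := P.X 0) (X₃ := M) (ModuleCat.ofHom (LinearMap.ker P.aug).subtype)
    (ModuleCat.ofHom P.aug) (ModuleCat.hom_ext (LinearMap.ext fun x => LinearMap.mem_ker.1 x.2))

lemma syzSC_shortExact (P : Res A M) : (syzSC P).ShortExact where
  exact := (ShortComplex.ShortExact.moduleCat_exact_iff_function_exact _).2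
    (LinearMap.exact_subtype_ker_map P.aug)
  mono_f := (ModuleCat.mono_iff_injective _).2 Subtype.val_injective
  epi_g := (ModuleCat.epi_iff_surjective _).2 P.aug_surj

/-- The map of short complexes. -/
noncomputable def ResMap.sc (φ : ResMap Q P f) : syzSC Q ⟶ syzSC P where
  τ₁ := ModuleCat.ofHom φ.syz
  τ₂ := ModuleCat.ofHom (φ.app 0)
  τ₃ := ModuleCat.ofHom f
  comm₁₂ := rfl
  comm₂₃ := ModuleCat.hom_ext (LinearMap.ext fun x => φ.comm_aug x)

end shift

/-- Tensoring a resolution with a map. -/
noncomputable def tensorMap {X Y : ModuleCat.{u} A} (g : X ⟶ Y) {N : ModuleCat.{u} A} (R : ProjectiveResolution N) :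
    DRingPC.tensorRes X R ⟶ DRingPC.tensorRes Y R :=
  (NatTrans.mapHomologicalComplex ((tensoringLeft (ModuleCat.{u} A)).map g) _).app R.complex

/-- Functoriality of the tensored short complex. -/
noncomputable def tensorSCMap {S S' : ShortComplex (ModuleCat.{u} A)} (θ : S ⟶ S') {N : ModuleCat.{u} A}
    (R : ProjectiveResolution N) :
    DRingPC.tensorResSC (S := S) R ⟶ DRingPC.tensorResSC (S := S') R where
  τ₁ := tensorMap θ.τ₁ R
  τ₂ := tensorMap θ.τ₂ R
  τ₃ := tensorMap θ.τ₃ R
  comm₁₂ := by
    ext i : 1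
    exact (comp_whiskerRight _ _ _).symm.trans ((congrArg (· ▷ R.complex.X i) θ.comm₁₂).trans (comp_whiskerRight _ _ _))
  comm₂₃ := by
    ext i : 1
    exact (comp_whiskerRight _ _ _).symm.trans ((congrArg (· ▷ R.complex.X i) θ.comm₂₃).trans (comp_whiskerRight _ _ _))

lemma homologyZeroIso_naturality {X Y : ModuleCat.{u} A} (g : X ⟶ Y) {N : ModuleCat.{u} A}
    (R : ProjectiveResolution N) :
    HomologicalComplex.homologyMap (tensorMap g R) 0 ≫ (FTorColim.homologyZeroIso R Y).hom =
      (FTorColim.homologyZeroIso R X).hom ≫ g ▷ N :=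
  FTorColim.hom_square _ _ _ _ (ChainComplex.isoHomologyι₀_inv_naturality (tensorMap g R))
    (FTorColim.opcyclesZeroIso_naturality R g)

/-- `φ` kills homology in degree `p` after tensoring with `N`. -/
def KillsAt {L M : ModuleCat.{u} A} {Q : Res A L} {P : Res A M} {f : L →ₗ[A] M} (φ : ResMap Q P f)
    (N : ModuleCat.{u} A) (p : ℕ) : Prop :=
  ∀ y : TensorProduct A (Q.X p) N, (∀ q (hq : p = q + 1), (Q.d q).rTensor N (hq ▸ y) = 0) →
    ∃ w, (P.d p).rTensor N w = (φ.app p).rTensor N y

theorem homologyMap_eq_zero {N : ModuleCat.{u} A} (R : ProjectiveResolution N) :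
    ∀ (p : ℕ) {L M : ModuleCat.{u} A} (Q : Res A L) (P : Res A M) (f : L →ₗ[A] M) (φ : ResMap Q P f),
      KillsAt φ N p → HomologicalComplex.homologyMap (tensorMap (ModuleCat.ofHom f) R) p = 0 := by
  intro p
  induction p with
  | zero =>
    intro L M Q P f φ h
    rw [← cancel_mono (FTorColim.homologyZeroIso R M).hom, homologyZeroIso_naturality, zero_comp]
    suffices h0 : (ModuleCat.ofHom f ▷ N) = 0 by rw [h0, comp_zero]
    refine ModuleCat.hom_ext (LinearMap.ext fun z => ?_)
    change f.rTensor N z = 0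
    obtain ⟨y, rfl⟩ := LinearMap.rTensor_surjective N Q.aug_surj z
    obtain ⟨w, hw⟩ := h y (fun q hq => absurd hq (Nat.succ_ne_zero q).symm)
    rw [← LinearMap.rTensor_comp_apply, show f ∘ₗ Q.aug = P.aug ∘ₗ φ.app 0 from
      LinearMap.ext fun x => (φ.comm_aug x).symm, LinearMap.rTensor_comp_apply, ← hw,
      ← LinearMap.rTensor_comp_apply, P.exact₀.linearMap_comp_eq_zero, LinearMap.rTensor_zero,
      LinearMap.zero_apply]
  | succ p ih =>
    intro L M Q P f φ h
    haveI : Module.Flat A (P.X 0) := by haveI := P.proj 0; infer_instance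
    have hP := DRingPC.tensorResSC_shortExact (syzSC_shortExact P) R
    have hQ := DRingPC.tensorResSC_shortExact (syzSC_shortExact Q) R
    haveI : Mono (hP.δ (p + 1) p (by simp)) :=
      (hP.homology_exact₃ (p + 1) p (by simp)).mono_g
        ((@DRingPC.isZero_tensorRes_of_flat _ _ (syzSC P).X₂ ‹_› _ R p).eq_of_src _ _)
    have hnat := HomologicalComplex.HomologySequence.δ_naturality (tensorSCMap φ.sc R) hQ hP (p + 1) p (by simp)
    have hgoal : hQ.δ (p + 1) p (by simp) ≫
        HomologicalComplex.homologyMap (tensorMap (ModuleCat.ofHom φ.syz) R) p = 0 := by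
      cases p with
      | succ q =>
        rw [ih (shift Q) (shift P) φ.syz φ.shift (fun y hy => ?_)]
        · exact comp_zero
        · exact h y fun r hr => by
            obtain rfl : r = q + 1 := by omega
            exact hy q rfl
      | zero =>
        have hcomp := hQ.δ_comp 1 0 (by simp)
        have hi := homologyZeroIso_naturality (syzSC Q).f R
        have h0 : hQ.δ 1 0 (by simp) ≫ (FTorColim.homologyZeroIso R (syzOne Q)).hom ≫ (syzSC Q).f ▷ N = 0 := by
          erw [← hi]
          exact ((reassoc_of% hcomp) _).trans zero_comp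
        refine (cancel_mono (FTorColim.homologyZeroIso R (syzOne P)).hom).1 ?_
        refine ((Category.assoc _ _ _).trans (congrArg (hQ.δ 1 0 (by simp) ≫ ·)
          (homologyZeroIso_naturality (ModuleCat.ofHom φ.syz) R))).trans ?_
        refine Eq.trans ?_ zero_comp.symm
        refine ModuleCat.hom_ext (LinearMap.ext fun x => ?_)
        have hx := ConcreteCategory.congr_hom h0 x
        let z : TensorProduct A (syzOne Q) N :=
          (FTorColim.homologyZeroIso R (syzOne Q)).hom (hQ.δ 1 0 (by simp) x)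
        change φ.syz.rTensor N z = 0
        have hz : (LinearMap.ker Q.aug).subtype.rTensor N z = 0 := hx
        obtain ⟨y, hy⟩ := LinearMap.rTensor_surjective N (shift Q).aug_surj z
        obtain ⟨w, hw⟩ := h y (fun q hq => by
          obtain rfl : q = 0 := by omega
          rw [← hy] at hz
          rw [← LinearMap.rTensor_comp_apply] at hz
          exact hz)
        have e1 : φ.syz ∘ₗ (shift Q).aug = (shift P).aug ∘ₗ φ.shift.app 0 :=
          LinearMap.ext fun x => (φ.shift.comm_aug x).symm
        have hw' : (φ.shift.app 0).rTensor N y = ((shift P).d 0).rTensor N w := hw.symm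
        rw [← hy, ← LinearMap.rTensor_comp_apply, e1]
        refine (LinearMap.rTensor_comp_apply _ _ _ _).trans ?_
        refine (congrArg ((shift P).aug.rTensor N) hw').trans ?_
        rw [← LinearMap.rTensor_comp_apply, (shift P).exact₀.linearMap_comp_eq_zero, LinearMap.rTensor_zero]
        rfl
    exact (cancel_mono (hP.δ (p + 1) p _)).1 ((hnat.symm.trans hgoal).trans zero_comp.symm)

theorem exists_pow_tor_map_eq_zero (A : Type u) [CommRing A] [IsNoetherianRing A] (I : Ideal A)
    (M N : Type u) [AddCommGroup M] [Module A M] [Module.Finite A M] [AddCommGroup N] [Module A N]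
    (hN : ∀ a ∈ I, ∀ y : N, a • y = 0) :
    ∃ n : ℕ, 0 < n ∧ ∀ p : ℕ,
      ((CategoryTheory.Tor (ModuleCat.{u} A) p).map (ModuleCat.ofHom (I ^ n • ⊤ : Submodule A M).subtype)).app
        (ModuleCat.of A N) = 0 := by
  let M' : ModuleCat.{u} A := ModuleCat.of A M
  obtain ⟨S, hpos, hS⟩ := exists_stage M' (mkRes M') I
  refine ⟨S.n, hpos, fun p => ?_⟩
  let R := projectiveResolution (ModuleCat.of A N)
  have h1 : ((CategoryTheory.Tor (ModuleCat.{u} A) p).map (ModuleCat.ofHom S.f)).app (ModuleCat.of A N) = 0 := by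
    have h2 := homologyMap_eq_zero R p S.Q (mkRes M') S.f S.φ (hS (ModuleCat.of A N) hN p)
    refine (ProjectiveResolution.leftDerived_app_eq ((tensoringLeft (ModuleCat.{u} A)).map (ModuleCat.ofHom S.f)) R p).trans ?_
    change _ ≫ HomologicalComplex.homologyMap (tensorMap (ModuleCat.ofHom S.f) R) p ≫ _ = 0
    rw [h2, zero_comp, comp_zero]
  let e : S.L ≃ₗ[A] (I ^ S.n • ⊤ : Submodule A M) :=
    (LinearEquiv.ofInjective S.f S.inj).trans (LinearEquiv.ofEq _ _ S.range_eq)
  have he : ModuleCat.ofHom (I ^ S.n • ⊤ : Submodule A M).subtype =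
      ModuleCat.ofHom e.symm.toLinearMap ≫ (ModuleCat.ofHom S.f : S.L ⟶ M') :=
    ModuleCat.hom_ext (LinearMap.ext fun x => (congrArg Subtype.val (e.apply_symm_apply x)).symm)
  rw [he, Functor.map_comp, NatTrans.comp_app]
  exact (congrArg (_ ≫ ·) h1).trans comp_zero

end Groth.Agent.TorAR
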