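import Groth.Agent.TorAR.Res
import Mathlib.RingTheory.Finiteness.Ideal

/-!
# Uniform pro-vanishing of `Tor`: the null homotopies
-/

set_option autoImplicit false
universe u

open TensorProduct

namespace Groth.Agent.TorAR

variable {A : Type u} [CommRing A]

/-- A chain map. -/
structure CpxMap (B C : Cpx A) where
  app : ∀ j, B.X j →ₗ[A] C.X j
  comm : ∀ j x, C.d j (app (j + 1) x) = app j (B.d j x)

/-- Tensor boundaries of `B` are detected in `C` for modules killed by `I`. -/
def CpxMap.Detects {B C : Cpx A} (u : CpxMap B C) (I : Ideal A) : Prop :=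
  ∀ (N : ModuleCat.{u} A), (∀ a ∈ I, ∀ y : N, a • y = 0) → ∀ (j : ℕ) (x : B.X j ⊗[A] N),
    (∃ w, (C.d j).rTensor N w = (u.app j).rTensor N x) → ∃ w, (B.d j).rTensor N w = x

lemma exists_koszul {M : ModuleCat.{u} A} (P : Res A M) (I : Ideal A) :
    ∀ s : Finset A, (∀ a ∈ s, a ∈ I) → ∃ (C : Cpx A) (u : CpxMap P.toCpx C) (J : Ideal A) (b : ℕ),
      C.Small J b ∧ u.Detects I ∧ ∀ a ∈ s, a ∈ J.radical := by
  classical
  intro s
  induction s using Finset.induction_on with
  | empty =>
    intro _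
    refine ⟨P.toCpx, ⟨fun j => LinearMap.id, fun j x => rfl⟩, ⊥, 0, ⟨fun j x _ a ha => ?_, fun j x hj hx => ?_⟩,
      fun N hN j x => ?_, fun a ha => absurd ha (Finset.notMem_empty a)⟩
    · rw [(Submodule.mem_bot A).1 ha, zero_smul]
      exact ⟨0, map_zero _⟩
    · obtain ⟨j, rfl⟩ : ∃ i, j = i + 1 := ⟨j - 1, by omega⟩
      exact (P.exact j x).1 hx
    · rintro ⟨w, hw⟩
      exact ⟨w, hw.trans (by rw [LinearMap.rTensor_id]; rfl)⟩
  | @insert a s has ih =>
    intro hs
    obtain ⟨C, u, J, b, hC, hu, hrad⟩ := ih fun x hx => hs x (Finset.mem_insert_of_mem hx)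
    refine ⟨cone C a, ⟨fun j => coneIncl C j ∘ₗ u.app j, fun j x => ?_⟩, _, b + 1, small_cone hC a, ?_, ?_⟩
    · change (cone C a).d j (coneIncl C (j + 1) (u.app (j + 1) x)) = coneIncl C j (u.app j (P.d j x))
      rw [coneIncl_d, u.comm]
    · rintro N hN j x ⟨w, hw⟩
      change coneX C (j + 1) ⊗[A] N at w
      refine hu N hN j x ⟨(coneFst C (j + 1)).rTensor N w, ?_⟩
      have h1 : (coneFst C j ∘ₗ (cone C a).d j).rTensor N w =
          (coneFst C j ∘ₗ coneIncl C j ∘ₗ u.app j).rTensor N x := by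
        rw [LinearMap.rTensor_comp, LinearMap.rTensor_comp _ (coneFst C j) (coneIncl C j ∘ₗ u.app j)]
        exact congrArg ((coneFst C j).rTensor N) hw
      rw [coneFst_d,
        show coneFst C j ∘ₗ coneIncl C j ∘ₗ u.app j = u.app j from
          LinearMap.ext fun y => coneFst_incl C j (u.app j y)] at h1
      refine Eq.trans ?_ h1
      have h2 : ((C.d j ∘ₗ coneFst C (j + 1) + a • coneSnd C j).rTensor N) w =
          (C.d j).rTensor N ((coneFst C (j + 1)).rTensor N w) + a • (coneSnd C j).rTensor N w := by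
        rw [LinearMap.rTensor_add, LinearMap.rTensor_comp, LinearMap.rTensor_smul]
        rfl
      refine Eq.trans ?_ h2.symm
      generalize ((coneSnd C j).rTensor N) w = v
      have hv : a • v = 0 := by
        induction v using TensorProduct.induction_on with
        | zero => exact smul_zero _
        | tmul y z => rw [← tmul_smul, hN a (hs a (Finset.mem_insert_self a s)), tmul_zero]
        | add y z hy hz => rw [smul_add, hy, hz, add_zero]
      rw [hv]
      exact (add_zero _).symm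
    · intro x hx
      rcases Finset.mem_insert.1 hx with rfl | hx
      · exact Ideal.le_radical (Ideal.mem_sup_right (Ideal.mem_span_singleton_self _))
      · obtain ⟨n, hn⟩ := hrad x hx
        exact ⟨n + n, Ideal.mem_sup_left (by rw [pow_add]; exact Ideal.mul_mem_mul hn hn)⟩

/-- A finite stage `f : L → M` onto `Iⁿ M`, with a map of resolutions. -/
structure Stage {M : ModuleCat.{u} A} (P : Res A M) (I : Ideal A) where
  n : ℕ
  L : ModuleCat.{u} A
  fin : Module.Finite A L
  f : L →ₗ[A] M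
  inj : Function.Injective f
  range_eq : LinearMap.range f = I ^ n • ⊤
  Q : Res A L
  φ : ResMap Q P f

variable {M : ModuleCat.{u} A} {P : Res A M} {I : Ideal A} {C : Cpx A}

/-- The previous homotopy component. -/
def Stage.prev (S : Stage P I) (s : ∀ i, S.Q.X i →ₗ[A] C.X (i + 1)) : ∀ i, S.Q.X i →ₗ[A] C.X i
  | 0 => 0
  | i + 1 => s i ∘ₗ S.Q.d i

/-- Null homotopic below degree `k`. -/
def Stage.Null (S : Stage P I) (u : CpxMap P.toCpx C) (k : ℕ) : Prop :=
  ∃ s : ∀ i, S.Q.X i →ₗ[A] C.X (i + 1), ∀ i < k, ∀ x, u.app i (S.φ.app i x) = C.d i (s i x) + S.prev s i x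

lemma Stage.null_succ (S : Stage P I) (u : CpxMap P.toCpx C) (k : ℕ)
    (s : ∀ i, S.Q.X i →ₗ[A] C.X (i + 1))
    (hs : ∀ i < k, ∀ x, u.app i (S.φ.app i x) = C.d i (s i x) + S.prev s i x)
    (hbd : ∀ x, C.IsBd k (u.app k (S.φ.app k x) - S.prev s k x)) : S.Null u (k + 1) := by
  haveI := S.Q.proj k
  obtain ⟨t, ht, -⟩ := exists_lift (C.d k) ⊤ (u.app k ∘ₗ S.φ.app k - S.prev s k) fun x => by
    obtain ⟨w, hw⟩ := hbd x
    exact ⟨w, trivial, hw⟩
  refine ⟨Function.update s k t, fun i hi x => ?_⟩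
  have hprev : S.prev (Function.update s k t) i = S.prev s i := by
    cases i with
    | zero => rfl
    | succ i => simp only [Stage.prev]; rw [Function.update_of_ne (by omega)]
  rw [hprev]
  rcases Nat.lt_succ_iff_lt_or_eq.1 hi with h | rfl
  · rw [Function.update_of_ne (by omega)]
    exact hs i h x
  · rw [Function.update_self, ht]
    exact (sub_add_cancel _ _).symm

lemma Stage.prev_cyc (S : Stage P I) (u : CpxMap P.toCpx C) (k : ℕ) (s : ∀ i, S.Q.X i →ₗ[A] C.X (i + 1))
    (hs : ∀ i < k, ∀ x, u.app i (S.φ.app i x) = C.d i (s i x) + S.prev s i x) (x : S.Q.X k) :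
    C.IsCyc k (u.app k (S.φ.app k x) - S.prev s k x) := by
  cases k with
  | zero => trivial
  | succ k =>
    change C.d k (u.app (k + 1) (S.φ.app (k + 1) x) - s k (S.Q.d k x)) = 0
    rw [map_sub, u.comm, S.φ.comm, hs k (Nat.lt_succ_self k), add_sub_cancel_left]
    cases k with
    | zero => rfl
    | succ k => exact (congrArg (s k) (S.Q.d_d k x)).trans (map_zero _)

variable [IsNoetherianRing A]

lemma Stage.exists_refine (S : Stage P I) (k e : ℕ) : ∃ (S' : Stage P I) (g : S'.L →ₗ[A] S.L)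
    (ψ : ResMap S'.Q S.Q g), 0 < S'.n ∧ (∀ i x, S'.φ.app i x = S.φ.app i (ψ.app i x)) ∧
      ∀ x, ψ.app k x ∈ (I ^ e • ⊤ : Submodule A (S.Q.X k)) := by
  obtain ⟨n, hn⟩ := exists_resMap S.Q I k e
  haveI := S.fin
  let W : Submodule A S.L := I ^ (n + 1) • ⊤
  let L' : ModuleCat.{u} A := ModuleCat.of A W
  haveI : Module.Finite A L' := inferInstanceAs (Module.Finite A W)
  let g : L' →ₗ[A] S.L := W.subtype
  obtain ⟨ψ, hψ⟩ := hn L' g
    (fun x => Submodule.smul_mono_left (Ideal.pow_le_pow_right (Nat.le_succ n)) x.2) (mkRes L')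
  refine ⟨⟨S.n + (n + 1), L', inferInstance, S.f ∘ₗ g, S.inj.comp Subtype.val_injective, ?_, mkRes L',
    S.φ.comp ψ⟩, g, ψ, Nat.add_pos_right _ n.succ_pos, fun i x => rfl, hψ⟩
  rw [LinearMap.range_comp]
  change Submodule.map S.f (LinearMap.range W.subtype) = _
  rw [Submodule.range_subtype, Submodule.map_smul'', Submodule.map_top, S.range_eq, ← Submodule.mul_smul,
    ← pow_add, add_comm]

lemma Stage.exists_null {J : Ideal A} {b e : ℕ} (u : CpxMap P.toCpx C) (hC : C.Small J b) (he : I ^ e ≤ J)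
    (S₀ : Stage P I) : ∀ k : ℕ, k ≤ b + 1 → ∃ S : Stage P I, 0 < S.n ∧ S.Null u k := by
  intro k
  induction k with
  | zero =>
    intro _
    obtain ⟨S, -, -, hpos, -, -⟩ := S₀.exists_refine 0 0
    exact ⟨S, hpos, fun i => 0, fun i hi => absurd hi (Nat.not_lt_zero i)⟩
  | succ k ih =>
    intro hk
    obtain ⟨S, -, s, hs⟩ := ih (by omega)
    obtain ⟨S', g, ψ, hpos, hφ, hψ⟩ := S.exists_refine k e
    let s' : ∀ i, S'.Q.X i →ₗ[A] C.X (i + 1) := fun i => s i ∘ₗ ψ.app i
    have hprev : ∀ i x, S'.prev s' i x = S.prev s i (ψ.app i x) := fun i x => by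
      cases i with
      | zero => rfl
      | succ i => exact congrArg (s i) (ψ.comm i x).symm
    refine ⟨S', hpos, S'.null_succ u k s' (fun i hi x => ?_) fun x => ?_⟩
    · rw [hφ, hs i hi, hprev]
      rfl
    · rw [hφ, hprev]
      have key : ∀ y ∈ (I ^ e • ⊤ : Submodule A (S.Q.X k)),
          (u.app k ∘ₗ S.φ.app k - S.prev s k) y ∈ LinearMap.range (C.d k) := fun y hy => by
        refine Submodule.smul_induction_on (p := fun y => (u.app k ∘ₗ S.φ.app k - S.prev s k) y ∈
          LinearMap.range (C.d k)) hy (fun r hr z _ => ?_) fun y z hy hz => ?_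
        · rw [map_smul]
          exact hC.kill k _ (S.prev_cyc u k s hs z) r (he hr)
        · rw [map_add]
          exact add_mem hy hz
      exact key _ (hψ x)

lemma Stage.null_all {J : Ideal A} {b : ℕ} (u : CpxMap P.toCpx C) (hC : C.Small J b) (S : Stage P I)
    (h : S.Null u (b + 1)) : ∀ k, S.Null u k := by
  intro k
  rcases le_or_gt k (b + 1) with hk | hk
  · obtain ⟨s, hs⟩ := h
    exact ⟨s, fun i hi => hs i (by omega)⟩
  induction k, hk using Nat.le_induction with
  | base =>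
    obtain ⟨s, hs⟩ := h
    exact S.null_succ u (b + 1) s hs fun x => hC.bound _ _ (Nat.lt_succ_self b) (S.prev_cyc u _ s hs x)
  | succ k hk ih =>
    obtain ⟨s, hs⟩ := ih
    exact S.null_succ u k s hs fun x => hC.bound _ _ (by omega) (S.prev_cyc u _ s hs x)

/-- Uniform vanishing on homology after tensoring with modules killed by `I`. -/
theorem exists_stage (M : ModuleCat.{u} A) [Module.Finite A M] (P : Res A M) (I : Ideal A) :
    ∃ S : Stage P I, 0 < S.n ∧ ∀ (N : ModuleCat.{u} A), (∀ a ∈ I, ∀ y : N, a • y = 0) → ∀ (p : ℕ)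
      (y : S.Q.X p ⊗[A] N), (∀ q (hq : p = q + 1), (S.Q.d q).rTensor N (hq ▸ y) = 0) →
        ∃ w, (P.d p).rTensor N w = (S.φ.app p).rTensor N y := by
  obtain ⟨s, hs⟩ := IsNoetherian.noetherian I
  obtain ⟨C, u, J, b, hC, hu, hrad⟩ := exists_koszul P I s fun a ha => hs ▸ Submodule.subset_span ha
  obtain ⟨e, he⟩ := Ideal.exists_pow_le_of_le_radical_of_fg
    (show I ≤ J.radical from hs ▸ Submodule.span_le.2 hrad) (IsNoetherian.noetherian I)
  let S₀ : Stage P I :=
    { n := 0, L := M, fin := inferInstance, f := LinearMap.id, inj := Function.injective_id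
      range_eq := by rw [LinearMap.range_id, pow_zero, Ideal.one_eq_top, Submodule.top_smul]
      Q := P
      φ := ⟨fun j => LinearMap.id, fun j x => rfl, fun x => rfl⟩ }
  obtain ⟨S, hpos, hS⟩ := Stage.exists_null u hC he S₀ (b + 1) le_rfl
  refine ⟨S, hpos, fun N hN p y hy => hu N hN p _ ?_⟩
  obtain ⟨t, ht⟩ := S.null_all u hC hS (p + 1)
  refine ⟨(t p).rTensor N y, ?_⟩
  have h1 : u.app p ∘ₗ S.φ.app p = C.d p ∘ₗ t p + S.prev t p :=
    LinearMap.ext fun x => ht p (Nat.lt_succ_self p) x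
  rw [← LinearMap.rTensor_comp_apply, ← LinearMap.rTensor_comp_apply, h1, LinearMap.rTensor_add,
    LinearMap.add_apply]
  have h2 : (S.prev t p).rTensor N y = 0 := by
    cases p with
    | zero => rw [show S.prev t 0 = 0 from rfl, LinearMap.rTensor_zero, LinearMap.zero_apply]
    | succ q =>
      rw [show S.prev t (q + 1) = t q ∘ₗ S.Q.d q from rfl, LinearMap.rTensor_comp_apply, hy q rfl, map_zero]
  rw [h2, add_zero]

end Groth.Agent.TorAR
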