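import Mathlib.RingTheory.Filtration
import Mathlib.Algebra.Category.ModuleCat.Basic
import Mathlib.LinearAlgebra.TensorProduct.Tower
import Mathlib.RingTheory.Finiteness.Cardinality
import Mathlib.Algebra.Module.Projective
import Mathlib.RingTheory.Noetherian.Basic

/-!
# Uniform pro-vanishing of `Tor`: resolutions and cones
-/

set_option autoImplicit false
universe u

open TensorProduct

namespace Groth.Agent.TorAR

variable {A : Type u} [CommRing A]

/-- A chain complex, elementwise. -/
structure Cpx (A : Type u) [CommRing A] where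
  X : ℕ → ModuleCat.{u} A
  d : ∀ j, X (j + 1) →ₗ[A] X j
  d_d : ∀ j x, d j (d (j + 1) x) = 0

/-- `x` is a cycle. -/
def Cpx.IsCyc (C : Cpx A) : ∀ j, C.X j → Prop
  | 0, _ => True
  | j + 1, x => C.d j x = 0

/-- `x` is a boundary. -/
def Cpx.IsBd (C : Cpx A) (j : ℕ) (x : C.X j) : Prop := ∃ w, C.d j w = x

/-- `J` kills homology, which vanishes above degree `b`. -/
structure Cpx.Small (C : Cpx A) (J : Ideal A) (b : ℕ) : Prop where
  kill : ∀ j x, C.IsCyc j x → ∀ a ∈ J, C.IsBd j (a • x)
  bound : ∀ j x, b < j → C.IsCyc j x → C.IsBd j x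

/-- A resolution. -/
structure Res (A : Type u) [CommRing A] (L : ModuleCat.{u} A) extends Cpx A where
  aug : X 0 →ₗ[A] L
  aug_surj : Function.Surjective aug
  exact₀ : Function.Exact (d 0) aug
  exact : ∀ j, Function.Exact (d (j + 1)) (d j)
  proj : ∀ j, Module.Projective A (X j)
  fin : ∀ j, Module.Finite A (X j)

/-- A finite free cover. -/
noncomputable def cover (L : ModuleCat.{u} A) [Module.Finite A L] :
    Σ' (n : ℕ), {f : (Fin n → A) →ₗ[A] L // Function.Surjective f} :=
  ⟨_, _, (Module.Finite.exists_fin' A L).choose_spec.choose_spec⟩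

/-- The cone of multiplication by `a`. -/
def coneX (C : Cpx A) : ℕ → ModuleCat.{u} A
  | 0 => C.X 0
  | j + 1 => ModuleCat.of A (C.X (j + 1) × C.X j)

/-- The differential of the cone. -/
def coneD (C : Cpx A) (a : A) : ∀ j, coneX C (j + 1) →ₗ[A] coneX C j
  | 0 => (C.d 0).coprod (a • LinearMap.id)
  | j + 1 => ((C.d (j + 1)).coprod (a • LinearMap.id)).prod (-(C.d j ∘ₗ LinearMap.snd A _ _))

/-- The cone. -/
def cone (C : Cpx A) (a : A) : Cpx A where
  X := coneX C
  d := coneD C a
  d_d j x := by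
    obtain ⟨g, c⟩ := x
    cases j with
    | zero =>
      change C.d 0 (C.d 1 g + a • c) + a • (-(C.d 0 c)) = 0
      rw [map_add, C.d_d, map_smul, zero_add, smul_neg, add_neg_cancel]
    | succ j =>
      refine Prod.ext ?_ ?_
      · change C.d (j + 1) (C.d (j + 2) g + a • c) + a • (-(C.d (j + 1) c)) = 0
        rw [map_add, C.d_d, map_smul, zero_add, smul_neg, add_neg_cancel]
      · change -(C.d j (-(C.d (j + 1) c))) = 0
        rw [map_neg, C.d_d, neg_zero, neg_zero]

/-- The inclusion into the cone. -/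
def coneIncl (C : Cpx A) : ∀ j, C.X j →ₗ[A] coneX C j
  | 0 => LinearMap.id
  | j + 1 => LinearMap.inl A _ _

/-- The retraction from the cone. -/
def coneFst (C : Cpx A) : ∀ j, coneX C j →ₗ[A] C.X j
  | 0 => LinearMap.id
  | j + 1 => LinearMap.fst A _ _

/-- The second projection from the cone. -/
def coneSnd (C : Cpx A) (j : ℕ) : coneX C (j + 1) →ₗ[A] C.X j := LinearMap.snd A _ _

lemma coneFst_incl (C : Cpx A) (j : ℕ) (x : C.X j) : coneFst C j (coneIncl C j x) = x := by
  cases j <;> rfl

lemma coneIncl_d (C : Cpx A) (a : A) (j : ℕ) (x : C.X (j + 1)) :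
    (cone C a).d j (coneIncl C (j + 1) x) = coneIncl C j (C.d j x) := by
  cases j with
  | zero =>
    change C.d 0 x + a • (0 : C.X 0) = C.d 0 x
    rw [smul_zero, add_zero]
  | succ j =>
    refine Prod.ext ?_ ?_
    · change C.d (j + 1) x + a • (0 : C.X (j + 1)) = C.d (j + 1) x
      rw [smul_zero, add_zero]
    · change -(C.d j (0 : C.X (j + 1))) = 0
      rw [map_zero, neg_zero]

lemma coneFst_d (C : Cpx A) (a : A) (j : ℕ) :
    coneFst C j ∘ₗ (cone C a).d j = C.d j ∘ₗ coneFst C (j + 1) + a • coneSnd C j := by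
  cases j <;> exact LinearMap.ext fun x => rfl

lemma small_cone {C : Cpx A} {J : Ideal A} {b : ℕ} (h : C.Small J b) (a : A) :
    (cone C a).Small (J * J ⊔ Ideal.span {a}) (b + 1) := by
  constructor
  · intro j x hx r hr
    have key : ∀ r₁ ∈ J, ∀ r₂ ∈ J, (cone C a).IsBd j ((r₁ * r₂) • x) := by
      intro r₁ h₁ r₂ h₂
      cases j with
      | zero =>
        obtain ⟨w, hw⟩ := h.kill 0 x trivial (r₁ * r₂) (J.mul_mem_left _ h₂)
        exact ⟨(w, 0), by change C.d 0 w + a • (0 : C.X 0) = _; rw [smul_zero, add_zero, hw]; rfl⟩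
      | succ j =>
        obtain ⟨g, c⟩ := x
        have hc : C.IsCyc j c := by
          cases j with
          | zero => trivial
          | succ j =>
            have h2 : -(C.d j c) = 0 := congrArg Prod.snd hx
            exact neg_eq_zero.1 h2
        have hg : C.d j g + a • c = 0 := by
          cases j with
          | zero => exact hx
          | succ j => exact congrArg Prod.fst hx
        obtain ⟨w, hw⟩ := h.kill j c hc r₂ h₂
        have hz : C.IsCyc (j + 1) (r₂ • g + a • w) := by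
          change C.d j (r₂ • g + a • w) = 0
          rw [map_add, map_smul, map_smul, hw, smul_comm a r₂, ← smul_add, hg, smul_zero]
        obtain ⟨v, hv⟩ := h.kill (j + 1) _ hz r₁ h₁
        refine ⟨(v, -(r₁ • w)), Prod.ext ?_ ?_⟩
        · change C.d (j + 1) v + a • -(r₁ • w) = (r₁ * r₂) • g
          rw [hv, smul_add, mul_smul, smul_neg, smul_comm a r₁, add_neg_cancel_right]
        · change -(C.d j (-(r₁ • w))) = (r₁ * r₂) • c
          rw [map_neg, neg_neg, map_smul, hw, mul_smul]
    have key2 : (cone C a).IsBd j (a • x) := by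
      cases j with
      | zero => exact ⟨((0 : C.X 1), x), by change C.d 0 0 + a • (show C.X 0 from x) = a • (show C.X 0 from x); rw [map_zero, zero_add]⟩
      | succ j =>
        obtain ⟨g, c⟩ := x
        have hg : C.d j g + a • c = 0 := by
          cases j with
          | zero => exact hx
          | succ j => exact congrArg Prod.fst hx
        refine ⟨((0 : C.X (j + 2)), g), Prod.ext ?_ ?_⟩
        · change C.d (j + 1) 0 + a • g = a • g
          rw [map_zero, zero_add]
        · change -(C.d j g) = a • c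
          exact (eq_neg_of_add_eq_zero_right hg).symm
    let K : Ideal A := ((LinearMap.range ((cone C a).d j)).comap (LinearMap.toSpanSingleton A _ x))
    have hK : J * J ⊔ Ideal.span {a} ≤ K := sup_le
      (Ideal.mul_le.2 fun r₁ h₁ r₂ h₂ => key r₁ h₁ r₂ h₂)
      ((Ideal.span_singleton_le_iff_mem _).2 key2)
    exact hK hr
  · intro j x hj hx
    obtain ⟨j, rfl⟩ : ∃ i, j = i + 1 := ⟨j - 1, by omega⟩
    obtain ⟨g, c⟩ := x
    have hc : C.IsCyc j c := by
      cases j with
      | zero => trivial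
      | succ j =>
        have h2 : -(C.d j c) = 0 := congrArg Prod.snd hx
        exact neg_eq_zero.1 h2
    have hg : C.d j g + a • c = 0 := by
      cases j with
      | zero => exact hx
      | succ j => exact congrArg Prod.fst hx
    obtain ⟨w, hw⟩ := h.bound j c (by omega) hc
    have hz : C.IsCyc (j + 1) (g + a • w) := by
      change C.d j (g + a • w) = 0
      rw [map_add, map_smul, hw, hg]
    obtain ⟨v, hv⟩ := h.bound (j + 1) _ (by omega) hz
    refine ⟨(v, -w), Prod.ext ?_ ?_⟩
    · change C.d (j + 1) v + a • -w = g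
      rw [hv, smul_neg, add_neg_cancel_right]
    · change -(C.d j (-w)) = c
      rw [map_neg, neg_neg, hw]

variable [IsNoetherianRing A]

/-- Iterated syzygies: a finite module with a finite free cover. -/
noncomputable def syzSeq (L : ModuleCat.{u} A) [Module.Finite A L] : ℕ → {K : ModuleCat.{u} A // Module.Finite A K}
  | 0 => ⟨L, inferInstance⟩
  | j + 1 =>
    haveI := (syzSeq L j).2
    ⟨ModuleCat.of A (LinearMap.ker (cover (syzSeq L j).1).2.1), inferInstance⟩

/-- The syzygies. -/
noncomputable def syzMod (L : ModuleCat.{u} A) [Module.Finite A L] (j : ℕ) : ModuleCat.{u} A := (syzSeq L j).1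

instance finite_syzMod (L : ModuleCat.{u} A) [Module.Finite A L] (j : ℕ) : Module.Finite A (syzMod L j) :=
  (syzSeq L j).2

/-- The free modules of the resolution. -/
noncomputable def frMod (L : ModuleCat.{u} A) [Module.Finite A L] (j : ℕ) : ModuleCat.{u} A :=
  ModuleCat.of A (Fin (cover (syzMod L j)).1 → A)

/-- The covers of the syzygies. -/
noncomputable def frPi (L : ModuleCat.{u} A) [Module.Finite A L] (j : ℕ) : frMod L j →ₗ[A] syzMod L j :=
  (cover (syzMod L j)).2.1

/-- The inclusions of the syzygies. -/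
noncomputable def frIota (L : ModuleCat.{u} A) [Module.Finite A L] (j : ℕ) :
    syzMod L (j + 1) →ₗ[A] frMod L j :=
  (LinearMap.ker (cover (syzMod L j)).2.1).subtype

lemma frPi_surj (L : ModuleCat.{u} A) [Module.Finite A L] (j : ℕ) : Function.Surjective (frPi L j) :=
  (cover (syzMod L j)).2.2

lemma frIota_inj (L : ModuleCat.{u} A) [Module.Finite A L] (j : ℕ) : Function.Injective (frIota L j) :=
  Subtype.val_injective

lemma fr_exact (L : ModuleCat.{u} A) [Module.Finite A L] (j : ℕ) : Function.Exact (frIota L j) (frPi L j) :=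
  LinearMap.exact_subtype_ker_map _

/-- The finite free resolution. -/
noncomputable def mkRes (L : ModuleCat.{u} A) [Module.Finite A L] : Res A L where
  X := frMod L
  d j := frIota L j ∘ₗ frPi L (j + 1)
  d_d j x := by
    change frIota L j (frPi L (j + 1) (frIota L (j + 1) (frPi L (j + 2) x))) = 0
    rw [(fr_exact L (j + 1)).apply_apply_eq_zero, map_zero]
  aug := frPi L 0
  aug_surj := frPi_surj L 0
  exact₀ := fun x => by
    refine (fr_exact L 0 x).trans ⟨?_, ?_⟩
    · rintro ⟨y, rfl⟩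
      obtain ⟨w, rfl⟩ := frPi_surj L 1 y
      exact ⟨w, rfl⟩
    · rintro ⟨w, rfl⟩
      exact ⟨_, rfl⟩
  exact j := fun x => by
    constructor
    · intro hx
      obtain ⟨y, hy⟩ := (fr_exact L (j + 1) x).1 (frIota_inj L j (hx.trans (map_zero (frIota L j)).symm))
      obtain ⟨w, rfl⟩ := frPi_surj L (j + 2) y
      exact ⟨w, hy⟩
    · rintro ⟨w, rfl⟩
      change frIota L j (frPi L (j + 1) (frIota L (j + 1) (frPi L (j + 2) w))) = 0
      rw [(fr_exact L (j + 1)).apply_apply_eq_zero, map_zero]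
  proj j := inferInstanceAs (Module.Projective A (Fin _ → A))
  fin j := inferInstanceAs (Module.Finite A (Fin _ → A))

omit [IsNoetherianRing A] in
lemma exists_lift {P X Y : Type u} [AddCommGroup P] [Module A P] [Module.Projective A P] [AddCommGroup X]
    [Module A X] [AddCommGroup Y] [Module A Y] (f : X →ₗ[A] Y) (S : Submodule A X) (g : P →ₗ[A] Y)
    (h : ∀ x, g x ∈ S.map f) : ∃ t : P →ₗ[A] X, (∀ x, f (t x) = g x) ∧ ∀ x, t x ∈ S := by
  obtain ⟨t, ht⟩ := Module.projective_lifting_property ((f ∘ₗ S.subtype).codRestrict (S.map f)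
    fun x => Submodule.mem_map_of_mem x.2) (g.codRestrict _ h) (by
      rintro ⟨y, x, hx, rfl⟩
      exact ⟨⟨x, hx⟩, rfl⟩)
  refine ⟨S.subtype ∘ₗ t, fun x => ?_, fun x => (t x).2⟩
  exact congrArg Subtype.val (LinearMap.congr_fun ht x)

/-- Artin–Rees along a map of finite modules. -/
lemma exists_shift {X Y : Type u} [AddCommGroup X] [Module A X] [AddCommGroup Y] [Module A Y] [Module.Finite A Y]
    (f : X →ₗ[A] Y) (I : Ideal A) : ∃ c, ∀ n (y : Y), y ∈ (I ^ n • ⊤ : Submodule A Y) →
      y ∈ LinearMap.range f → y ∈ (I ^ (n - c) • ⊤ : Submodule A X).map f := by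
  obtain ⟨c, hc⟩ := I.exists_pow_inf_eq_pow_smul (LinearMap.range f)
  refine ⟨c, fun n y hy hyr => ?_⟩
  rw [Submodule.map_smul'', Submodule.map_top]
  rcases le_total c n with h | h
  · have h1 : y ∈ I ^ n • ⊤ ⊓ LinearMap.range f := ⟨hy, hyr⟩
    rw [hc n h] at h1
    exact Submodule.smul_mono le_rfl inf_le_right h1
  · rw [Nat.sub_eq_zero_of_le h, pow_zero, Ideal.one_eq_top, Submodule.top_smul]
    exact hyr

/-- A map of resolutions over a linear map. -/
structure ResMap {L M : ModuleCat.{u} A} (Q : Res A L) (P : Res A M) (f : L →ₗ[A] M) where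
  app : ∀ j, Q.X j →ₗ[A] P.X j
  comm : ∀ j x, P.d j (app (j + 1) x) = app j (Q.d j x)
  comm_aug : ∀ x, P.aug (app 0 x) = f (Q.aug x)

/-- Composition of maps of resolutions. -/
def ResMap.comp {K L M : ModuleCat.{u} A} {R : Res A K} {Q : Res A L} {P : Res A M} {f : L →ₗ[A] M}
    {g : K →ₗ[A] L} (φ : ResMap Q P f) (ψ : ResMap R Q g) : ResMap R P (f ∘ₗ g) where
  app j := φ.app j ∘ₗ ψ.app j
  comm j x := by simp only [LinearMap.comp_apply, φ.comm, ψ.comm]
  comm_aug x := by simp only [LinearMap.comp_apply, φ.comm_aug, ψ.comm_aug]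

/-- High powers lift with a shift of exponent not depending on the power. -/
lemma exists_resMap_shift {M : ModuleCat.{u} A} (P : Res A M) (I : Ideal A) (k : ℕ) :
    ∃ c : ℕ, ∀ (n : ℕ) (L : ModuleCat.{u} A) (f : L →ₗ[A] M), (∀ x, f x ∈ (I ^ n • ⊤ : Submodule A M)) →
      ∀ Q : Res A L, ∃ ψ : ResMap Q P f, ∀ x, ψ.app k x ∈ (I ^ (n - c) • ⊤ : Submodule A (P.X k)) := by
  classical
  haveI := P.fin
  choose c hc using fun j => exists_shift (P.d j) I
  let E : ℕ → ℕ → ℕ := fun n j => n - (Finset.range j).sum c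
  refine ⟨(Finset.range k).sum c, fun n L f hf Q => ?_⟩
  haveI := Q.proj
  let T : ℕ → Type u := fun j => {t : Q.X j →ₗ[A] P.X j //
    (∀ x, t x ∈ (I ^ E n j • ⊤ : Submodule A (P.X j))) ∧
      ∀ w : Q.X (j + 1), t (Q.d j w) ∈ LinearMap.range (P.d j)}
  have h0 : Nonempty {t : T 0 // ∀ x, P.aug (t.1 x) = f (Q.aug x)} := by
    obtain ⟨t, h1, h2⟩ := exists_lift P.aug (I ^ n • ⊤ : Submodule A (P.X 0)) (f ∘ₗ Q.aug) fun x => by
      rw [Submodule.map_smul'', Submodule.map_top, LinearMap.range_eq_top.2 P.aug_surj]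
      exact hf _
    refine ⟨⟨⟨t, fun x => by simpa [E] using h2 x, fun w => ?_⟩, h1⟩⟩
    exact (P.exact₀ _).1 (by rw [h1, LinearMap.comp_apply, Q.exact₀.apply_apply_eq_zero, map_zero])
  have hstep : ∀ j (s : T j), Nonempty {t : T (j + 1) // ∀ x, P.d j (t.1 x) = s.1 (Q.d j x)} := fun j s => by
    obtain ⟨t, h1, h2⟩ := exists_lift (P.d j) (I ^ E n (j + 1) • ⊤ : Submodule A (P.X (j + 1)))
      (s.1 ∘ₗ Q.d j) fun x => by
        have := hc j (E n j) _ (s.2.1 (Q.d j x)) (s.2.2 x)
        rwa [show E n (j + 1) = E n j - c j by simp [E, Finset.sum_range_succ, Nat.sub_sub]]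
    refine ⟨⟨⟨t, h2, fun w => ?_⟩, h1⟩⟩
    exact (P.exact j _).1 (by rw [h1, LinearMap.comp_apply, Q.d_d, map_zero])
  let t : ∀ j, T j := fun j => Nat.rec (motive := T) h0.some.1 (fun j s => (hstep j s).some.1) j
  refine ⟨⟨fun j => (t j).1, fun j x => (hstep j (t j)).some.2 x, h0.some.2⟩, fun x => ?_⟩
  exact (t k).2.1 x

/-- High powers lift with image in any given power. -/
lemma exists_resMap {M : ModuleCat.{u} A} (P : Res A M) (I : Ideal A) (k e : ℕ) :
    ∃ n : ℕ, ∀ (L : ModuleCat.{u} A) (f : L →ₗ[A] M), (∀ x, f x ∈ (I ^ n • ⊤ : Submodule A M)) →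
      ∀ Q : Res A L, ∃ ψ : ResMap Q P f, ∀ x, ψ.app k x ∈ (I ^ e • ⊤ : Submodule A (P.X k)) := by
  obtain ⟨c, hc⟩ := exists_resMap_shift P I k
  refine ⟨e + c, fun L f hf Q => ?_⟩
  obtain ⟨ψ, hψ⟩ := hc (e + c) L f hf Q
  exact ⟨ψ, fun x => by simpa using hψ x⟩

end Groth.Agent.TorAR
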